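import Cfsg.Agent.Lib.GOA.Fpf
import Cfsg.Agent.Lib.GO.RedL
import Cfsg.Agent.Lib.CoprimeAut

/-!
# Known `S₃`-free groups with a fixed point free operator group are solvable
-/

set_option autoImplicit false
set_option linter.unusedSectionVars false

namespace CfsgLib.GO

open Subgroup Cfsg CfsgLib.H1 CfsgLib.Cop CfsgLib.PCompl CfsgLib.Suz

universe u

section Transport

variable {K X : Type*} [Group K] [Finite K] [Group X] [Finite X] {f : K →* X}

theorem RA.map {r : ℕ} (h : RA r (⊤ : Subgroup K)) (hf : Function.Injective f) :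
    RA r f.range := by
  rintro _ ⟨x, rfl⟩ ho
  obtain ⟨⟨s, -, h1⟩, h2⟩ := h x (mem_top x) (by rwa [orderOf_injective f hf] at ho)
  refine ⟨⟨f s, ⟨s, rfl⟩, by rw [← map_inv, ← map_mul, ← map_mul, h1, map_inv]⟩, ?_⟩
  rintro _ ⟨y, rfl⟩ _ ⟨z, rfl⟩ h3 h4
  rw [← map_mul, ← map_mul] at h3 h4 ⊢
  rw [h2 y (mem_top y) z (mem_top z) (hf h3) (hf h4)]

theorem sylow_comap {p : ℕ} {S : Subgroup X} (hf : Function.Injective f)
    (h : IsSylowIn p S f.range) : IsSylowIn p (S.comap f) ⊤ :=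
  ⟨le_top, h.isPGroup.comap_of_injective f hf, by
    rw [← relIndex_map_map_of_injective _ _ hf, map_comap_eq_self h.le, ← MonoidHom.range_eq_map]
    exact h.not_dvd⟩

theorem mem_norm_comap {S : Subgroup X} (h : S ≤ f.range) {g : K} :
    g ∈ normalizer ((S.comap f : Subgroup K) : Set K) ↔ f g ∈ normalizer (S : Set X) := by
  rw [← comap_normalizer_eq_of_le_range h, mem_comap]

theorem TwoT.map {p : ℕ} (h : TwoT p (⊤ : Subgroup K)) (hf : Function.Injective f) :
    TwoT p f.range := by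
  rintro S hS _ ⟨g, rfl⟩ _ ⟨g', rfl⟩ h1 h2
  obtain ⟨y, hy, h3⟩ := h _ (sylow_comap hf hS) g (mem_top g) g' (mem_top g')
    (fun e => h1 ((mem_norm_comap hS.le).1 e)) fun e => h2 ((mem_norm_comap hS.le).1 e)
  exact ⟨f y, hy, by simpa using (mem_norm_comap hS.le).1 h3⟩

end Transport

section Sz

variable {K : Type*} [Group K] [Finite K]

theorem twoT_of {p : ℕ} [Fact p.Prime] {Q : Subgroup K} (hQ : IsSylowIn p Q ⊤)
    (h : ∀ g g', g ∉ normalizer (Q : Set K) → g' ∉ normalizer (Q : Set K) →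
      ∃ y ∈ Q, g⁻¹ * y⁻¹ * g' ∈ normalizer (Q : Set K)) : TwoT p (⊤ : Subgroup K) := by
  intro S hS g _ g' _ h1 h2
  obtain ⟨c, -, rfl⟩ := hS.exists_conj_eq hQ
  rw [normalizer_map_conj, mem_map_conj_iff] at h1 h2
  obtain ⟨y, hy, h3⟩ := h _ _ h1 h2
  refine ⟨c * y * c⁻¹, conj_mem_map_conj hy, ?_⟩
  rw [normalizer_map_conj, mem_map_conj_iff]
  simpa [mul_assoc] using h3

theorem SzT.twoT (h : SzT K) : TwoT 2 (⊤ : Subgroup K) := by
  obtain ⟨H, Q, t, Z, h1, -⟩ := h.data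
  have : Fact (Nat.Prime 2) := ⟨Nat.prime_two⟩
  refine twoT_of (Q := Q) ⟨le_top, h1, ?_⟩ fun g g' h2 h3 => ?_
  · rw [relIndex_top_right, Z.toRO.index_Q, ← even_iff_two_dvd, Nat.not_even_iff_odd]
    exact Z.odd.mul Z.even.add_one
  · obtain ⟨a, ha, y, hy, e⟩ := Z.canon g⁻¹ fun e => h2 (Z.toRO.le_normalizer (inv_mem_iff.1 e))
    obtain ⟨a', ha', y', hy', e'⟩ := Z.canon g'⁻¹
      fun e => h3 (Z.toRO.le_normalizer (inv_mem_iff.1 e))
    refine ⟨y'⁻¹ * y, mul_mem (inv_mem hy') hy, Z.toRO.le_normalizer ?_⟩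
    rw [e, ← inv_inv g', e']
    simpa [mul_assoc] using mul_mem ha (inv_mem ha')

theorem SzT.ra (h : SzT K) {r : ℕ} (hr : r.Prime) (h2 : r ≠ 2) : RA r (⊤ : Subgroup K) := by
  intro x₀ _ ho
  have : Fact r.Prime := ⟨hr⟩
  obtain ⟨u, x, h1, h3, h4⟩ := h.exists_real hr h2 (ho ▸ orderOf_dvd_natCard x₀)
  obtain ⟨H, Q, t, Z, -⟩ := h
  have ne : ∀ y : K, orderOf y = r → y * y ≠ 1 := fun y hy e =>
    h2 ((Nat.prime_dvd_prime_iff_eq hr Nat.prime_two).1
      (hy ▸ orderOf_dvd_of_pow_eq_one (by rw [pow_two, e])))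
  obtain ⟨s, r', hs⟩ := Z.toRO.exists_dist
  obtain ⟨g, rfl⟩ := Z.toRO.invol_conj_s hs (u := u) (fun e => ne x h3 (by
    rw [e, one_mul, mul_one] at h4; nth_rw 1 [h4]; rw [inv_mul_cancel])) h1
  have h5 : SReal Q s (g * x * g⁻¹) := ⟨hs.s_mem, hs.ss, by
    rw [show s * (g * x * g⁻¹) * s = g * (g⁻¹ * s * g * x * (g⁻¹ * s * g)) * g⁻¹ by group, h4]
    group, ne _ (by rw [H5.orderOf_conj', h3])⟩
  have pg : ∀ y : K, orderOf y = r → IsPGroup r (zpowers y) := fun y hy =>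
    isPGroup_zpowers_of_pow (k := 1) (by rw [pow_one, ← hy, pow_orderOf_eq_one])
  obtain ⟨R, h6, hR⟩ := IsSylowIn.exists_ge (pg _ (by rw [H5.orderOf_conj', h3]) :
    IsPGroup r (zpowers (g * x * g⁻¹))) le_top
  obtain ⟨⟨y, hy⟩, hy1⟩ := ne_bot_iff_exists_ne_one.1 (inf_centralizer_ne_bot_of_isNilpotent
    hR.isPGroup.isNilpotent le_rfl le_normalizer (hR.ne_bot (by
      rw [card_top]; exact ho ▸ orderOf_dvd_natCard x₀)))
  have h7 := Z.cent_eq h5 (a := y) (mem_cent.2 (hy.2 _ (h6 (mem_zpowers _))).symm)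
    fun e => hy1 (Subtype.ext e)
  obtain ⟨c, -, h8⟩ := hR.exists_conj_le (pg x₀ ho) le_top
  have h9 : c * x₀ * c⁻¹ ∈ centralizer {g * x * g⁻¹} :=
    h7 ▸ mem_cent.2 (hy.2 _ (h8 (conj_mem_map_conj (mem_zpowers x₀))))
  have h10 := Z.sreal_of_mem h5 h9 fun e => ne x₀ ho (by
    rw [conj_eq_one_iff.1 e, one_mul])
  refine ⟨⟨c⁻¹ * s * c, mem_top _, ?_⟩, fun a _ b _ ha hb => ?_⟩
  · calc c⁻¹ * s * c * x₀ * (c⁻¹ * s * c)⁻¹ = c⁻¹ * (s * (c * x₀ * c⁻¹) * s⁻¹) * c := by group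
      _ = x₀⁻¹ := by rw [inv_eq_of_mul_self hs.ss, h10.inv]; group
  · have h11 : ∀ a, x₀ * a = a * x₀ → c * a * c⁻¹ ∈ centralizer {c * x₀ * c⁻¹} := fun a ha =>
      mem_cent.2 (by simp only [mul_assoc, inv_mul_cancel_left]; rw [← mul_assoc a, ← ha, mul_assoc])
    simpa using Z.cent_comm h10 (h11 a ha) (h11 b hb)

end Sz

section L3

open Matrix MatrixGroups CfsgLib.H5 CfsgLib.GW.PA CfsgLib.BSW

variable {F : Type*} [Field F] [Fintype F]

theorem psl_ra [CharP F 3] (h2 : (2 : F) ≠ 0) (hF : Fintype.card F % 2 = 1) {r : ℕ} (hr : r.Prime)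
    (hr2 : r ≠ 2) (hr3 : r ≠ 3) :
    RA r (⊤ : Subgroup (ProjectiveSpecialLinearGroup (Fin 2) F)) := by
  intro x _ ho
  have h1 := hr.odd_of_ne_two hr2
  obtain ⟨Y, rfl, hY⟩ := exists_odd_lift h1 (ho ▸ pow_orderOf_eq_one x)
  have h3 : (Y 0 0 + Y 1 1) ^ 2 ≠ 4 := fun e => by
    have h3 := SL2_pow_of_trace_sq (r := 3) e
    rw [← pow_mul] at h3
    have h4 := Nat.dvd_gcd (orderOf_dvd_of_pow_eq_one h3) (orderOf_dvd_of_pow_eq_one hY)
    rw [Nat.Coprime.gcd_eq_one (Nat.Coprime.mul_left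
      ((Nat.coprime_primes Nat.prime_two hr).2 hr2.symm)
      ((Nat.coprime_primes Nat.prime_three hr).2 hr3.symm)), Nat.dvd_one, orderOf_eq_one_iff] at h4
    rw [h4, map_one, orderOf_one] at ho
    exact hr.one_lt.ne ho
  obtain ⟨g, -, hg⟩ := JR.exists_inverting hF h2 h3
  refine ⟨⟨piP F g, mem_top _, by rw [← map_inv, ← map_mul, ← map_mul, hg, map_inv]⟩, ?_⟩
  intro y _ z _ hy hz
  obtain ⟨y, rfl⟩ := piP_surj y
  obtain ⟨z, rfl⟩ := piP_surj z
  rw [← map_mul, ← map_mul, JR.comm_of_cent (SL2_not_mem_center_of_trace h3)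
    (comm_of_piP_comm h2 h1 hY hy.symm).symm (comm_of_piP_comm h2 h1 hY hz.symm).symm]

theorem mem_norm_Rv {x y : F} (h0 : ¬ (x = 0 ∧ y = 0)) {g : SL(2, F)}
    (h : (g 0 0 * x + g 0 1 * y) * y = (g 1 0 * x + g 1 1 * y) * x) :
    piP F g ∈ normalizer (Rv x y : Set (ProjectiveSpecialLinearGroup (Fin 2) F)) := by
  refine mem_normalizer_of_conj_mem fun u hu => ?_
  obtain ⟨c, rfl⟩ := mem_Rv.1 hu
  obtain ⟨l, h1, h3⟩ := exists_smul h0 h
  rw [← map_inv, ← map_mul, ← map_mul, uv_conj, h1, h3]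
  exact Rv_smul_le l x y (mem_Rv.2 ⟨c, rfl⟩)

theorem psl_twoT [CharP F 3] (h2 : (2 : F) ≠ 0) :
    TwoT 3 (⊤ : Subgroup (ProjectiveSpecialLinearGroup (Fin 2) F)) := by
  have : Fact (Nat.Prime 3) := ⟨Nat.prime_three⟩
  intro S hS g _ g' _ h1 h3
  have h0 : S ≠ ⊥ := by
    rintro rfl
    exact h1 (le_normalizer_of_normal (mem_top g))
  obtain ⟨⟨z, hz⟩, hzo⟩ := exists_prime_orderOf_dvd_card'
    (G := ↥(S ⊓ centralizer (S : Set (ProjectiveSpecialLinearGroup (Fin 2) F)))) 3 (by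
    obtain ⟨k, hk⟩ := (hS.isPGroup.to_inf_left (K := centralizer S)).exists_card_eq
    rcases k with _ | k
    · exact absurd (card_eq_one.1 hk) (inf_centralizer_ne_bot_of_isNilpotent
        hS.isPGroup.isNilpotent le_rfl le_normalizer h0)
    · exact hk ▸ dvd_pow_self 3 k.succ_ne_zero)
  rw [orderOf_mk] at hzo
  obtain ⟨Z, rfl, hZ⟩ := exists_odd_lift (n := 3) (by decide) (hzo ▸ pow_orderOf_eq_one z)
  obtain ⟨x, y, c, h4, rfl⟩ := exists_uv (SL2_trace_of_pow (p := 3) (k := 1) (by rwa [pow_one]))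
  have h5 : Rv x y = S := by
    refine hS.eq_of_le ?_ (fun s hs => ?_) le_top
    · obtain ⟨n, -, hn⟩ := FiniteField.card F 3
      have h5 := card_Rv_dvd x y
      rw [Nat.card_eq_fintype_card (α := F), hn] at h5
      obtain ⟨k, -, hk⟩ := (Nat.dvd_prime_pow Nat.prime_three).1 h5
      exact IsPGroup.of_card hk
    · rw [← cent_eq_Rv h2 (mem_Rv.2 ⟨c, rfl⟩) (fun e => by
        rw [e, orderOf_one] at hzo; exact absurd hzo (by decide)), mem_centralizer_singleton_iff]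
      exact hz.2 s hs
  subst h5
  obtain ⟨g, rfl⟩ := piP_surj g
  obtain ⟨g', rfl⟩ := piP_surj g'
  have h5 := sub_ne_zero.2 fun e => h1 (mem_norm_Rv h4 e)
  have h6 := sub_ne_zero.2 fun e => h3 (mem_norm_Rv h4 e)
  obtain ⟨d, hd⟩ : ∃ d, d * _ = (g' 0 0 * x + g' 0 1 * y) * (g 1 0 * x + g 1 1 * y) -
      (g' 1 0 * x + g' 1 1 * y) * (g 0 0 * x + g 0 1 * y) :=
    ⟨_, div_mul_cancel₀ _ (mul_ne_zero h5 h6)⟩
  refine ⟨_, mem_Rv.2 ⟨d, rfl⟩, ?_⟩
  rw [← map_inv, ← map_inv, ← map_mul, ← map_mul, uv_inv]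
  refine mem_norm_Rv h4 ?_
  simp only [SL2_mul_apply, SL2_inv_00, SL2_inv_01, SL2_inv_10, SL2_inv_11, uv00, uv01, uv10, uv11]
  linear_combination -hd

omit [Field F] [Fintype F] in
theorem L3T.ra_twoT {X : Type*} [Group X] [Finite X] {G : Subgroup X} (h : L3T G) :
    TwoT 3 G ∧ ∀ r : ℕ, r.Prime → r ≠ 2 → r ≠ 3 → RA r G := by
  obtain ⟨F, _, _, f, h1, hF, ⟨e⟩⟩ := h
  have h8 : Fintype.card F % 8 = 3 := by
    rw [hF, pow_succ, pow_mul, Nat.mul_mod, Nat.pow_mod]; simp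
  have h2 : (2 : F) ≠ 0 := two_ne_zero_of_card (Or.inl h8)
  have : Fact (Nat.Prime 3) := ⟨Nat.prime_three⟩
  have : CharP F 3 := charP_of_card_eq_prime_pow hF
  have h3 : Function.Injective (G.subtype.comp e.symm.toMonoidHom) :=
    G.subtype_injective.comp e.symm.injective
  have h4 : (G.subtype.comp e.symm.toMonoidHom).range = G := by
    rw [MonoidHom.range_comp, MonoidHom.range_eq_top.2 e.symm.surjective, ← MonoidHom.range_eq_map,
      range_subtype]
  exact ⟨h4 ▸ (psl_twoT h2).map h3, fun r hr h5 h6 => h4 ▸ (psl_ra h2 (by omega) hr h5 h6).map h3⟩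

end L3

variable {X : Type u} [Group X] [Finite X]

theorem FM.simple {A G : Subgroup X} (h : FM A G) : IsSimpleGroup G := by
  have : Nontrivial G := (nontrivial_iff_ne_bot G).2 fun e => h.nsol (e ▸ inferInstance)
  refine ⟨fun N hN => (h.sim (N.map G.subtype) (map_subtype_le N) ?_).imp
    (fun e => (map_eq_bot_iff_of_injective _ G.subtype_injective).1 e) fun e => ?_⟩
  · exact fun g hg => le_normalizer_map G.subtype ⟨⟨g, hg⟩, le_normalizer_of_normal (mem_top _), rfl⟩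
  · exact map_injective G.subtype_injective (by rw [e, ← MonoidHom.range_eq_map, range_subtype])

theorem FM.not_kg {A G : Subgroup X} (h : FM A G) : ¬ KG G := fun hK => by
  obtain ⟨p, hp, h1⟩ := h.exists_rho
  have hs := h.simple
  rcases hK G (involves_self G) hs fun hc => h.nsol (Group.isSolvable_of_comm hc.is_comm.comm)
    with h2 | h2
  · have h3 := h2.twoT.map G.subtype_injective
    rw [range_subtype] at h3
    refine h.not_rho Nat.prime_two h3 ?_
    by_cases hp2 : p = 2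
    · exact hp2 ▸ h1
    · have h4 := (h2.ra hp hp2).map G.subtype_injective
      rw [range_subtype] at h4
      exact h.rho_two hp hp2 h4 h1
  · refine h.not_rho Nat.prime_three h2.ra_twoT.1 ?_
    by_cases hp3 : p = 3
    · exact hp3 ▸ h1
    have h3 : Rho A G 2 := by
      by_cases hp2 : p = 2
      · exact hp2 ▸ h1
      · exact h.rho_two hp hp2 (h2.ra_twoT.2 p hp hp2 hp3) h1
    have : Fact (Nat.Prime 2) := ⟨Nat.prime_two⟩
    refine h.rho_norm Nat.prime_two Nat.prime_three h3 fun S hS => ?_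
    have h4 := hS.subgroupOf le_rfl
    rw [subgroupOf_self] at h4
    obtain ⟨h5, ρ, h6, ⟨k, hk⟩, h7⟩ := exists_three_of_not_eight (K := (⊤ : Subgroup G))
      (by rw [card_top]; exact h2.not_eight_dvd) (fun hn => by
        obtain ⟨N, hN, h5, k, h6⟩ := hnpc_exists_normal (hnpc_top_iff.1 hn)
        rcases hN.eq_bot_or_eq_top with rfl | rfl
        · exact h.nsol (solvable_of_isPGroup (IsPGroup.of_card (index_bot.symm.trans h6)))
        · exact h.nsol (FT.feit_thompson (by rwa [card_top, Nat.coprime_two_right] at h5))) h4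
    rw [← subgroupOf_normalizer_eq hS.le, mem_subgroupOf] at h6
    refine Dvd.dvd.trans ?_ (orderOf_dvd_natCard _ (x := (ρ : X)) ⟨ρ.2, h6⟩)
    obtain ⟨j, -, hj⟩ := (Nat.dvd_prime_pow Nat.prime_three).1 (orderOf_dvd_of_pow_eq_one hk)
    rw [orderOf_coe, hj]
    refine dvd_pow_self 3 ?_
    rintro rfl
    rw [pow_zero, orderOf_eq_one_iff] at hj
    rw [hj, inf_eq_left.2 (fun x _ => mem_centralizer_singleton_iff.2 (by simp))] at h7
    rw [h7, card_bot] at h5
    exact absurd h5 (by decide)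

omit [Finite X] in
theorem exists_orbit_prod {Y : Type*} [Group Y] [Finite Y] {A G C : Subgroup Y} {x : Y}
    (hG : A ≤ normalizer (G : Set Y)) (hx : x ∈ G)
    (h1 : ∀ a ∈ A, a * x * a⁻¹ = x ∨ a * x * a⁻¹ ∈ C) (h2 : C ≤ centralizer {x}) :
    ∃ c ∈ C, x * c ∈ G ⊓ centralizer (A : Set Y) := by
  classical
  let E : Set Y := {e | ∃ a ∈ A, a * x * a⁻¹ = e}
  have hE : ∀ a ∈ A, ∀ e ∈ E, a * e * a⁻¹ ∈ E := by
    rintro a ha _ ⟨b, hb, rfl⟩
    exact ⟨a * b, mul_mem ha hb, by group⟩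
  have hc : IsMulCommutative (closure E) := by
    refine isMulCommutative_closure ?_
    rintro _ ⟨a, ha, rfl⟩ _ ⟨b, hb, rfl⟩
    have h3 : b⁻¹ * a * x * (b⁻¹ * a)⁻¹ * x = x * (b⁻¹ * a * x * (b⁻¹ * a)⁻¹) := by
      rcases h1 _ (mul_mem (inv_mem hb) ha) with e | e
      · rw [e]
      · exact mem_centralizer_singleton_iff.1 (h2 e)
    calc a * x * a⁻¹ * (b * x * b⁻¹) = b * (b⁻¹ * a * x * (b⁻¹ * a)⁻¹ * x) * b⁻¹ := by group
      _ = _ := by rw [h3]; group
  let _ : CommGroup (closure E) := { mul_comm := hc.is_comm.comm }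
  let _ : Fintype E := Fintype.ofFinite E
  let ι : E → closure E := fun e => ⟨e, subset_closure e.2⟩
  let x₀ : E := ⟨x, 1, one_mem _, by simp⟩
  have hn : ∀ a ∈ A, a ∈ normalizer (closure E : Set Y) := fun a ha =>
    mem_normalizer_of_conj_mem fun y hy => by
      have h3 : closure E ≤ (closure E).comap (MulAut.conj a).toMonoidHom :=
        (closure_le _).2 fun e he => subset_closure (hE a ha e he)
      exact h3 hy
  refine ⟨(∏ e ∈ Finset.univ.erase x₀, ι e : closure E), ?_, ?_⟩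
  · refine mem_subgroupOf.1 (Subgroup.prod_mem _ fun e he => ?_)
    obtain ⟨e, a, ha, rfl⟩ := e
    exact (h1 a ha).resolve_left fun h => Finset.ne_of_mem_erase he (Subtype.ext h)
  · have h3 := congrArg Subtype.val (Finset.mul_prod_erase Finset.univ ι (Finset.mem_univ x₀))
    rw [coe_mul] at h3
    rw [show x = (ι x₀ : Y) from rfl, h3]
    refine ⟨mem_subgroupOf.1 (Subgroup.prod_mem _ fun e _ => ?_), fun a ha => ?_⟩
    · obtain ⟨e, a, ha, rfl⟩ := e
      exact conj_mem_of_mem_normalizer (hG ha) hx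
    · let σ : E → E := fun e => ⟨a * e * a⁻¹, hE a ha e e.2⟩
      have h4 : Function.Bijective σ := Finite.injective_iff_bijective.1 fun e e' h =>
        Subtype.ext (by simpa [σ] using h)
      have h5 : normalizerMonoidHom (closure E) ⟨a, hn a ha⟩ (∏ e, ι e) = ∏ e, ι e := by
        rw [map_prod]
        exact Fintype.prod_bijective σ h4 _ _ fun e => rfl
      exact mul_inv_eq_iff_eq_mul.1 (congrArg Subtype.val h5)

theorem FP.quot {A G N : Subgroup X} (h : FP A G) [N.Normal] (h1 : N ≤ G)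
    (hs : Group.IsSolvable N) :
    FP (A.map (QuotientGroup.mk' N)) (G.map (QuotientGroup.mk' N)) where
  norm := (map_mono h.norm).trans (le_normalizer_map _)
  disj := by
    refine eq_bot_iff.2 ?_
    rintro _ ⟨⟨g, hg, rfl⟩, a, ha, e⟩
    have h2 : a ∈ G ⊓ A := ⟨by
      simpa using G.mul_mem hg (G.inv_mem (h1 (QuotientGroup.eq.1 e))), ha⟩
    rw [h.disj, mem_bot] at h2
    rw [← e, h2, map_one]
    exact one_mem _
  fpf := by
    refine eq_bot_iff.2 ?_
    rintro _ ⟨⟨g, hg, rfl⟩, e⟩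
    refine (QuotientGroup.eq_one_iff g).2 (h.mem_of_coset h1 le_normalizer_of_normal hs hg
      fun a ha => QuotientGroup.eq.1 ?_)
    have h2 := e _ (mem_map_of_mem _ ha)
    simp only [QuotientGroup.mk'_apply] at h2
    simp [h2]
  nil p hp hd := by
    have : Fact p.Prime := ⟨hp⟩
    exact hnpc_map (h.nil p hp (hd.trans (card_map_dvd _ _))) _

theorem FP.subgroupOf {A G M : Subgroup X} (h : FP A G) (h1 : A ≤ M) (h2 : G ≤ M) :
    FP (A.subgroupOf M) (G.subgroupOf M) where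
  norm := fun a ha => by
    rw [← subgroupOf_normalizer_eq h2]; exact h.norm ha
  disj := eq_bot_iff.2 fun x hx => Subtype.ext (h.disj.le (show (x : X) ∈ G ⊓ A from hx))
  fpf := eq_bot_iff.2 fun x hx => Subtype.ext (h.fpf.le (show (x : X) ∈ G ⊓ centralizer A from
    ⟨hx.1, fun a ha => congrArg Subtype.val (hx.2 ⟨a, h1 ha⟩ ha)⟩))
  nil p hp hd := by
    have : Fact p.Prime := ⟨hp⟩
    exact (hnpc_subgroupOf_iff h1).2 (h.nil p hp (by rwa [card_subgroupOf_of_le h2] at hd))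

theorem FP.solvable_aux (n : ℕ) : ∀ (X : Type u) [Group X] [Finite X] (A G : Subgroup X),
    Nat.card G = n → FP A G → KG G → Group.IsSolvable G := by
  induction n using Nat.strong_induction_on with | h n ih =>
  rintro X _ _ A G rfl h hK
  by_contra hn
  have sol : ∀ B Y, Y ≤ G → Y ≠ G → FP B Y → Group.IsSolvable Y := fun B Y h1 h2 h3 =>
    ih _ (card_lt_card_of_lt (h1.lt_of_ne h2)) X B Y rfl h3 (hK.of_le h1)
  have hR : ∀ N ≤ G, G ≤ normalizer (N : Set X) → Group.IsSolvable N → N = ⊥ := by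
    intro N₀ h1 h2 h3
    have := @solvableRadical_characteristic G _ _
    set N := (solvableRadical G).map G.subtype
    have h4 : normalizer (G : Set X) ≤ normalizer (N : Set X) :=
      normalizer_le_normalizer_map_subtype_of_characteristic G _
    have h5 : N ≤ G := map_subtype_le _
    have h6 : Group.IsSolvable N := isSolvable_map solvableRadical_isSolvable _
    have h7 : N₀ ≤ N := fun x hx => by
      have := (normal_subgroupOf_iff_le_normalizer h1).2 h2
      exact ⟨⟨x, h1 hx⟩, le_solvableRadical (isSolvable_subgroupOf h3 G) hx, rfl⟩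
    by_contra h0
    have h8 : G ≤ normalizer (N : Set X) := le_normalizer.trans h4
    have h9 := isSolvable_subgroupOf h6 (normalizer (N : Set X))
    have h10 := ih _ ?_ _ _ _ rfl ((h.subgroupOf (h.norm.trans h4) h8).quot
      (subgroupOf_mono _ h5) h9) ((hK.of_injective (subgroupOfEquivOfLe h8).toMonoidHom
        (subgroupOfEquivOfLe h8).injective).of_surjective _ (MonoidHom.subgroupMap_surjective _ _))
    · exact hn (isSolvable_of_equiv (subgroupOfEquivOfLe h8) (isSolvable_of_map_mk' h9 h10))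
    · have h10 := card_map_mk'_mul_card_inf (G.subgroupOf (normalizer (N : Set X)))
        (N.subgroupOf (normalizer (N : Set X)))
      rw [inf_eq_left.2 (subgroupOf_mono _ h5), card_subgroupOf_of_le h8,
        card_subgroupOf_of_le le_normalizer] at h10
      rw [← h10]
      exact lt_mul_of_one_lt_right Nat.card_pos ((one_lt_card_iff_ne_bot N).2
        fun e => h0 (eq_bot_iff.2 (e ▸ h7)))
  obtain ⟨T, hTG, ⟨h0, h1⟩, h2⟩ := exists_minimal_le_of_wellFoundedLT
    (fun T : Subgroup X => T ≠ ⊥ ∧ G ≤ normalizer (T : Set X)) G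
    ⟨fun e => hn (e ▸ inferInstance), le_normalizer⟩
  by_cases hT : T = G
  · refine FM.not_kg ⟨h, fun N h3 h4 => or_iff_not_imp_left.2 fun h5 =>
      le_antisymm h3 (hT ▸ h2 ⟨h5, h4⟩ (hT ▸ h3)), hn, fun Y h3 h4 h5 =>
        sol A Y h3 h4 (h.mono h3 h5)⟩ hK
  refine h0 (hR T hTG h1 (sol (A ⊓ normalizer (T : Set X)) T hTG hT ⟨inf_le_right, eq_bot_iff.2
    (h.disj ▸ inf_le_inf hTG inf_le_left), eq_bot_iff.2 fun x hx => ?_, fun p hp hd => ?_⟩))
  · obtain ⟨c, hc, h3⟩ := exists_orbit_prod (C := centralizer (T : Set X)) h.norm (hTG hx.1)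
      (fun a ha => or_iff_not_imp_left.2 fun h3 => by
        have h4 : G ≤ normalizer ((T.map (MulAut.conj a).toMonoidHom : Subgroup X) : Set X) :=
          FP.le_norm_conj fun g hg => h1 (conj_mem_of_mem_normalizer' (h.norm ha) hg)
        have h5 : T ⊓ T.map (MulAut.conj a).toMonoidHom = ⊥ := by
          by_contra h5
          exact h3 (mul_inv_eq_iff_eq_mul.2 (hx.2 a ⟨ha, mem_normalizer_of_map_conj_eq
            (eq_of_le_of_card_le ((h2 ⟨h5, le_normalizer_inf' h1 h4⟩ inf_le_left).trans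
              inf_le_right) (card_map_conj a T).le).symm⟩))
        intro y hy
        have h6 := conj_mem_map_conj (g := a) hx.1
        have h7 : y * (a * x * a⁻¹) * y⁻¹ * (a * x * a⁻¹)⁻¹ ∈
            T ⊓ T.map (MulAut.conj a).toMonoidHom := by
          refine mem_inf.2 ⟨?_, mul_mem (conj_mem_of_mem_normalizer (h4 (hTG hy)) h6) (inv_mem h6)⟩
          rw [mul_assoc y, mul_assoc y]
          exact mul_mem hy (conj_mem_of_mem_normalizer
            (h1 (conj_mem_of_mem_normalizer (h.norm ha) (hTG hx.1))) (inv_mem hy))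
        rwa [h5, mem_bot, mul_inv_eq_one, mul_inv_eq_iff_eq_mul] at h7)
      fun c hc => mem_centralizer_singleton_iff.2 (hc x hx.1).symm
    rw [h.fpf, mem_bot, mul_eq_one_iff_eq_inv] at h3
    exact (hR (T ⊓ centralizer (T : Set X)) (inf_le_left.trans hTG)
      (le_normalizer_inf_centralizer h1 h1) (Group.isSolvable_of_comm fun y z =>
        Subtype.ext (z.2.2 y y.2.1))).le (mem_inf.2 ⟨hx.1, h3 ▸ inv_mem hc⟩)
  · have : Fact p.Prime := ⟨hp⟩
    exact hnpc_of_le (h.nil p hp (hd.trans (card_dvd_of_le hTG))) inf_le_left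

/-- A group whose nonabelian simple sections are Suzuki groups or `L₂(3^(2f+1))` and which has a
fixed point free operator group that is `p`-nilpotent for all `p ∣ |G|` is solvable. -/
theorem KG.solvable_of_fpf {G A : Type*} [Group G] [Finite G] [Group A] [Finite A] (hK : KG G)
    (φ : A →* MulAut G) (hfpf : ∀ g : G, (∀ a : A, φ a g = g) → g = 1)
    (hn : ∀ p : ℕ, p.Prime → p ∣ Nat.card G → HasNormalPComplement p A) :
    Group.IsSolvable G := by
  open CopAut SemidirectProduct in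
  have := finite_semidirect (φ := φ.range.subtype)
  have e := equivMapOfInjective ⊤ _ (inl_injective (φ := φ.range.subtype))
  refine isSolvable_top_iff.1 (isSolvable_of_equiv e.symm (FP.solvable_aux _ _
    (R φ.range.subtype ⊤) (L φ.range.subtype ⊤) rfl ⟨R_top_le_normalizer_iff.2 inv_top,
      eq_bot_iff.2 ?_, ?_, fun p hp hd => ?_⟩
      ((hK.subgroup ⊤).of_surjective e.toMonoidHom e.surjective)))
  · rintro _ ⟨⟨g, -, rfl⟩, a, -, h⟩
    have h1 := congrArg left h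
    rw [left_inr, left_inl] at h1
    rw [← h1, map_one]
    exact one_mem _
  · rw [L_inf_centralizer, map_eq_bot_iff_of_injective _ inl_injective]
    exact eq_bot_iff.2 fun g hg => hfpf g fun a => hg.2 ⟨φ a, a, rfl⟩
  · have : Fact p.Prime := ⟨hp⟩
    rw [card_L_top] at hd
    exact hnpc_map (hnpc_top_iff.2 (hnpc_of_surjective (hn p hp hd) _
      φ.rangeRestrict_surjective)) _

theorem hnpc_of_hall {A : Type*} [Group A] [Finite A] {n : ℕ}
    (hHall : ∃ H : Subgroup A, IsPiHall {r : ℕ | r.Prime ∧ r ∣ n} H ∧ Group.IsNilpotent H)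
    (hcomp : ∃ K : Subgroup A, K.Normal ∧ (∀ r : ℕ, r.Prime → r ∣ Nat.card K → ¬ r ∣ n) ∧
      ∀ r : ℕ, r.Prime → r ∣ K.index → r ∣ n) (p : ℕ) (hp : p.Prime) (hd : p ∣ n) :
    HasNormalPComplement p A := by
  obtain ⟨H, h1, h2⟩ := hHall
  obtain ⟨K, _, h3, h4⟩ := hcomp
  have : Fact p.Prime := ⟨hp⟩
  refine hnpc_of_quotient_coprime K ((hp.coprime_iff_not_dvd.2 fun h => h3 p hp h hd).symm)
    (hnpc_of_surjective hnpc_of_isNilpotent ((QuotientGroup.mk' K).comp H.subtype) ?_)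
  have h5 : H ⊔ K = ⊤ := index_eq_one.1 (Nat.eq_one_iff_not_exists_prime_dvd.2 fun q hq h =>
    h1.2 q hq ⟨hq, h4 q hq (h.trans (index_dvd_of_le le_sup_right))⟩
      (h.trans (index_dvd_of_le le_sup_left)))
  rw [← MonoidHom.range_eq_top, MonoidHom.range_comp, range_subtype]
  refine comap_injective (QuotientGroup.mk'_surjective K) ?_
  rw [comap_map_eq, QuotientGroup.ker_mk', h5, comap_top]

end CfsgLib.GO
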