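import Cfsg.Agent.Lib.GOA.Real
import Cfsg.Agent.Lib.H1DStar
import Cfsg.Agent.Lib.H1Misc
import Cfsg.Agent.Lib.FT.Main

/-!
# Fixed point free operator groups that are `p`-nilpotent for all primes dividing `|G|`
-/

set_option autoImplicit false
set_option linter.unusedSectionVars false

namespace CfsgLib.GO

open Subgroup Cfsg CfsgLib.H1 CfsgLib.Cop CfsgLib.PCompl

universe u

variable {X : Type*} [Group X] [Finite X]

/-- `A` acts fixed point freely on `G` and is `p`-nilpotent for every prime `p` dividing `|G|`. -/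
structure FP (A G : Subgroup X) : Prop where
  norm : A ≤ normalizer (G : Set X)
  disj : G ⊓ A = ⊥
  fpf : G ⊓ centralizer (A : Set X) = ⊥
  nil : ∀ p : ℕ, p.Prime → p ∣ Nat.card G → HasNormalPComplement p A

theorem not_dvd_of_fpf {p : ℕ} [hp : Fact p.Prime] {V U : Subgroup X}
    (h1 : V ≤ normalizer (U : Set X)) (h2 : U ⊓ centralizer (V : Set X) = ⊥)
    (h3 : U ≤ centralizer (pResidualOf p V : Set X)) : ¬ p ∣ Nat.card U := fun hd => by
  obtain ⟨S, hS⟩ := IsSylowIn.exists_in (p := p) V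
  have h4 := card_modEq_card_inf_centralizer hS.isPGroup (hS.le.trans h1)
  have h5 : U ⊓ centralizer (S : Set X) = ⊥ := by
    refine eq_bot_iff.2 (h2 ▸ fun x hx => ⟨hx.1, ?_⟩)
    have h6 : V ≤ centralizer {x} := by
      rw [← pResidualOf_sup_sylow hS]
      exact sup_le (fun y hy => mem_centralizer_singleton_iff.2 (h3 hx.1 y hy))
        fun y hy => mem_centralizer_singleton_iff.2 (hx.2 y hy)
    exact fun y hy => mem_centralizer_singleton_iff.1 (h6 hy)
  rw [h5, card_bot] at h4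
  exact hp.out.one_lt.ne' (Nat.dvd_one.1 ((h4.dvd_iff dvd_rfl).1 hd))

theorem le_normalizer_inf' {A U V : Subgroup X} (h1 : A ≤ normalizer (U : Set X))
    (h2 : A ≤ normalizer (V : Set X)) : A ≤ normalizer ((U ⊓ V : Subgroup X) : Set X) :=
  (le_inf h1 h2).trans inf_normalizer_le_normalizer_inf

theorem exists_pResidualOf_lt {N : Subgroup X} (hs : Group.IsSolvable N) (h0 : N ≠ ⊥) :
    ∃ p : ℕ, p.Prime ∧ pResidualOf p N < N := by
  have : Nontrivial N := (nontrivial_iff_ne_bot N).2 h0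
  obtain ⟨M, _, -, h1⟩ := H5.exists_normal_prime_index_ge (G := N) (L := ⊥) bot_ne_top
  have : Fact M.index.Prime := ⟨h1⟩
  refine ⟨_, h1, (pResidualOf_le N).lt_of_ne fun e => h1.one_lt.ne' (index_eq_one.2 ?_)⟩
  refine eq_top_iff.2 fun x _ => PRes.pResidual_le_of_index_eq_pow (p := M.index) (k := 1)
    (pow_one _).symm ?_
  obtain ⟨y, hy, e'⟩ : (x : X) ∈ pResidualOf M.index N := e.symm ▸ x.2
  rwa [← show y = x from Subtype.ext e']

namespace FP

variable {A G : Subgroup X} (h : FP A G)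
include h

omit [Finite X] in
theorem mono {N : Subgroup X} (h1 : N ≤ G) (h2 : A ≤ normalizer (N : Set X)) : FP A N :=
  ⟨h2, eq_bot_iff.2 (h.disj ▸ inf_le_inf_right _ h1), eq_bot_iff.2 (h.fpf ▸ inf_le_inf_right _ h1),
    fun p hp hd => h.nil p hp (hd.trans (card_dvd_of_le h1))⟩

theorem cop {p : ℕ} [hp : Fact p.Prime] (hd : p ∣ Nat.card G) :
    (Nat.card (pResidualOf p A)).Coprime p := by
  rw [pResidualOf, card_map_subtype]
  exact hnpc_iff_coprime_pResidual.1 (h.nil p hp.out hd)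

theorem inf_cent {p : ℕ} [hp : Fact p.Prime] (hG : IsPGroup p G) :
    G ⊓ centralizer (pResidualOf p A : Set X) = ⊥ := by
  have h1 := not_dvd_of_fpf (p := p) (V := A) (U := G ⊓ centralizer (pResidualOf p A : Set X))
    (le_normalizer_inf_centralizer h.norm
      (le_normalizer.trans (normalizer_le_normalizer_pResidualOf A)))
    (eq_bot_iff.2 (h.fpf ▸ inf_le_inf_right _ inf_le_left)) inf_le_right
  obtain ⟨k, hk⟩ := (hG.to_le (inf_le_left (b := centralizer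
    (pResidualOf p A : Set X)))).exists_card_eq
  rcases k with _ | k
  · exact card_eq_one.1 hk
  · exact absurd (hk ▸ dvd_pow_self p k.succ_ne_zero) h1

theorem fix_p {p : ℕ} [hp : Fact p.Prime] (hG : IsPGroup p G) {Y : Subgroup X}
    (hY : ∀ a ∈ A, ∃ n ∈ G, n⁻¹ * a ∈ Y) : ∃ g ∈ G, ∀ a ∈ A, g⁻¹ * a * g ∈ Y := by
  by_cases h0 : G = ⊥
  · refine ⟨1, one_mem _, fun a ha => ?_⟩
    obtain ⟨n, hn, h1⟩ := hY a ha
    rw [h0, mem_bot] at hn
    simpa [hn] using h1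
  obtain ⟨k, hk⟩ := hG.exists_card_eq
  have hd : p ∣ Nat.card G := by
    rcases k with _ | k
    · exact absurd (card_eq_one.1 hk) h0
    · exact hk ▸ dvd_pow_self p k.succ_ne_zero
  have hB := pResidualOf_le (p := p) A
  have hc := coprime_card_of_isPGroup (h.cop hd) hG
  have hs : Group.IsSolvable (pResidualOf p A) ∨ Group.IsSolvable G :=
    Or.inr (solvable_of_isPGroup hG)
  have key : ∀ a ∈ A, ∃ n ∈ G, a • ((1 : X) : X ⧸ Y) = n • ((1 : X) : X ⧸ Y) := fun a ha => by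
    obtain ⟨n, hn, h1⟩ := hY a ha
    refine ⟨n, hn, ?_⟩
    rw [MulAction.Quotient.smul_coe, MulAction.Quotient.smul_coe, eq_comm, QuotientGroup.eq]
    simpa using h1
  obtain ⟨g, hg, h1⟩ := glauberman_exists_fixed (hB.trans h.norm) hc hs ((1 : X) : X ⧸ Y)
    fun a ha => key a (hB ha)
  refine ⟨g, hg, fun a ha => ?_⟩
  obtain ⟨n, hn, h2⟩ := key a ha
  obtain ⟨c, hc', h3⟩ := glauberman_conj_fixed (hB.trans h.norm) hc hs h1
    (β := a • g • ((1 : X) : X ⧸ Y)) (fun b hb => by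
      have h3 := h1 _ (conj_mem_of_mem_normalizer'
        (normalizer_le_normalizer_pResidualOf (p := p) A (le_normalizer ha)) hb)
      nth_rw 2 [← h3]
      simp only [smul_smul, mul_assoc, mul_inv_cancel_left])
    (g := a * g * a⁻¹ * n * g⁻¹)
    (mul_mem (mul_mem (conj_mem_of_mem_normalizer (h.norm ha) hg) hn) (inv_mem hg)) (by
      rw [smul_smul, inv_mul_cancel_right, mul_smul, ← h2, smul_smul, inv_mul_cancel_right,
        mul_smul])
  rw [h.inf_cent hG, mem_bot] at hc'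
  rw [hc', one_smul, smul_smul, MulAction.Quotient.smul_coe, MulAction.Quotient.smul_coe,
    QuotientGroup.eq] at h3
  simpa [mul_assoc] using h3

omit h in
theorem le_norm_conj {P : Subgroup X} {g : X} (h1 : ∀ a ∈ A, g⁻¹ * a * g ∈ normalizer (P : Set X)) :
    A ≤ normalizer ((P.map (MulAut.conj g).toMonoidHom : Subgroup X) : Set X) := fun a ha => by
  rw [normalizer_map_conj, mem_map_conj_iff]
  exact h1 a ha

/-- A fixed point on every set on which the solvable group `G` is transitive. -/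
theorem fix (hs : Group.IsSolvable G) {Y : Subgroup X} (hY : ∀ a ∈ A, ∃ n ∈ G, n⁻¹ * a ∈ Y) :
    ∃ g ∈ G, ∀ a ∈ A, g⁻¹ * a * g ∈ Y := by
  induction G using WellFoundedLT.induction generalizing Y with | ind N ih =>
  by_cases h0 : N = ⊥
  · have : Fact (Nat.Prime 2) := ⟨Nat.prime_two⟩
    exact h.fix_p (p := 2) (h0 ▸ IsPGroup.of_bot) hY
  obtain ⟨p, hp, h1⟩ := exists_pResidualOf_lt hs h0
  have : Fact p.Prime := ⟨hp⟩
  set M := pResidualOf p N
  have hn : normalizer (N : Set X) ≤ normalizer (M : Set X) :=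
    normalizer_le_normalizer_pResidualOf N
  have ih' := @ih M h1 (h.mono h1.le (h.norm.trans hn)) (solvable_of_le hs h1.le)
  have dec : ∀ P, IsSylowIn p P N → ∀ n ∈ N, ∃ x ∈ P, ∃ m ∈ M, x * m = n := fun P hP n hn' => by
    rw [← pResidualOf_sup_sylow hP, sup_comm] at hn'
    exact (mem_sup_iff_of_le_normalizer (hP.le.trans (le_normalizer.trans hn))).1 hn'
  obtain ⟨P₀, hP₀⟩ := IsSylowIn.exists_in (p := p) N
  obtain ⟨g₀, hg₀, h2⟩ := ih' (Y := normalizer (P₀ : Set X)) fun a ha => by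
    obtain ⟨k, hk, h2⟩ := hP₀.frattini_elem (h.norm ha)
    obtain ⟨x, hx, m, hm, rfl⟩ := dec P₀ hP₀ k hk
    refine ⟨m⁻¹, inv_mem hm, ?_⟩
    simpa [mul_assoc] using mul_mem (inv_mem (le_normalizer hx)) h2
  have hP := hP₀.map_conj_of_mem_normalizer (le_normalizer (h1.le hg₀))
  obtain ⟨g, hg, h3⟩ := (h.mono hP.le (le_norm_conj h2)).fix_p hP.isPGroup
    (Y := M ⊔ (Y ⊓ normalizer (M : Set X))) fun a ha => by
      obtain ⟨n, hn', h3⟩ := hY a ha
      obtain ⟨x, hx, m, hm, rfl⟩ := dec _ hP n hn'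
      refine ⟨x, hx, ?_⟩
      rw [show x⁻¹ * a = m * ((x * m)⁻¹ * a) by group]
      exact mul_mem (mem_sup_left hm) (mem_sup_right
        ⟨h3, hn (mul_mem (inv_mem (le_normalizer hn')) (h.norm ha))⟩)
  obtain ⟨m, hm, h4⟩ := ih' (Y := Y.map (MulAut.conj g).toMonoidHom) fun a ha => by
    obtain ⟨m, hm, y, hy, e⟩ := (mem_sup_iff_of_le_normalizer' inf_le_right).1 (h3 a ha)
    refine ⟨g * m * g⁻¹, conj_mem_of_mem_normalizer (hn (le_normalizer (hP.le hg))) hm, ?_⟩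
    rw [mem_map_conj_iff, show g⁻¹ * ((g * m * g⁻¹)⁻¹ * a) * g = m⁻¹ * (g⁻¹ * a * g) by group, ← e,
      inv_mul_cancel_left]
    exact hy.1
  refine ⟨m * g, mul_mem (h1.le hm) (hP.le hg), fun a ha => ?_⟩
  have h5 := mem_map_conj_iff.1 (h4 a ha)
  rwa [show (m * g)⁻¹ * a * (m * g) = g⁻¹ * (m⁻¹ * a * m) * g by group]

theorem mem_of_coset {N : Subgroup X} (h1 : N ≤ G) (h2 : A ≤ normalizer (N : Set X))
    (hs : Group.IsSolvable N) {g : X} (hg : g ∈ G) (h3 : ∀ a ∈ A, g⁻¹ * (a * g * a⁻¹) ∈ N) :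
    g ∈ N := by
  obtain ⟨m, hm, h4⟩ := (h.mono h1 h2).fix hs (Y := A.map (MulAut.conj g⁻¹).toMonoidHom)
    fun a ha => ⟨_, inv_mem (h3 a ha), by
      rw [mem_map_conj_iff]; simpa [mul_assoc] using ha⟩
  have h5 : g * m⁻¹ ∈ G := mul_mem hg (inv_mem (h1 hm))
  have h6 : g * m⁻¹ ∈ G ⊓ centralizer (A : Set X) := ⟨h5, fun a ha => by
    have h6 : g * m⁻¹ * a * (g * m⁻¹)⁻¹ * a⁻¹ ∈ G ⊓ A := by
      refine ⟨?_, A.mul_mem ?_ (A.inv_mem ha)⟩
      · rw [mul_assoc (g * m⁻¹), mul_assoc (g * m⁻¹)]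
        exact mul_mem h5 (conj_mem_of_mem_normalizer (h.norm ha) (inv_mem h5))
      · have h7 := mem_map_conj_iff.1 (h4 a ha)
        simpa [mul_assoc] using h7
    rw [h.disj, mem_bot, mul_inv_eq_one, mul_inv_eq_iff_eq_mul] at h6
    exact h6.symm⟩
  rw [h.fpf, mem_bot, mul_inv_eq_one] at h6
  exact h6 ▸ hm

theorem exists_sylow (hs : Group.IsSolvable G) (p : ℕ) [Fact p.Prime] :
    ∃ P, IsSylowIn p P G ∧ A ≤ normalizer (P : Set X) := by
  obtain ⟨P₀, hP₀⟩ := IsSylowIn.exists_in (p := p) G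
  obtain ⟨g, hg, h1⟩ := h.fix hs (Y := normalizer (P₀ : Set X)) fun a ha => by
    obtain ⟨k, hk, h2⟩ := hP₀.frattini_elem (h.norm ha)
    exact ⟨k⁻¹, inv_mem hk, by rwa [inv_inv]⟩
  exact ⟨_, hP₀.map_conj_of_mem_normalizer (le_normalizer hg), le_norm_conj h1⟩

end FP

/-- Elements of order `r` are real and have abelian centralizers. -/
def RA (r : ℕ) (G : Subgroup X) : Prop :=
  ∀ x ∈ G, orderOf x = r → (∃ s ∈ G, s * x * s⁻¹ = x⁻¹) ∧
    ∀ y ∈ G, ∀ z ∈ G, x * y = y * x → x * z = z * x → y * z = z * y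

/-- A Sylow `p`-subgroup is transitive on the other ones. -/
def TwoT (p : ℕ) (G : Subgroup X) : Prop :=
  ∀ S, IsSylowIn p S G → ∀ g ∈ G, ∀ g' ∈ G, g ∉ normalizer (S : Set X) →
    g' ∉ normalizer (S : Set X) → ∃ y ∈ S, g⁻¹ * y⁻¹ * g' ∈ normalizer (S : Set X)

/-- A minimal counterexample. -/
structure FM (A G : Subgroup X) : Prop extends FP A G where
  sim : ∀ N ≤ G, G ≤ normalizer (N : Set X) → N = ⊥ ∨ N = G
  nsol : ¬ Group.IsSolvable G
  sol : ∀ Y ≤ G, Y ≠ G → A ≤ normalizer (Y : Set X) → Group.IsSolvable Y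

/-- There is an invariant Sylow `p`-subgroup. -/
def Rho (A G : Subgroup X) (p : ℕ) : Prop :=
  p ∣ Nat.card G ∧ ∃ R, IsSylowIn p R G ∧ A ≤ normalizer (R : Set X)

namespace FM

variable {A G : Subgroup X} (h : FM A G)
include h

omit [Finite X] in
theorem norm_ne {U : Subgroup X} (h1 : U ≤ G) (h0 : U ≠ ⊥) (hs : Group.IsSolvable U) :
    G ⊓ normalizer (U : Set X) ≠ G := fun e =>
  (h.sim U h1 (inf_eq_left.1 e)).elim h0 fun e' => h.nsol (e' ▸ hs)

omit [Finite X] in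
theorem norm_inv {U : Subgroup X} (h2 : A ≤ normalizer (U : Set X)) :
    A ≤ normalizer ((G ⊓ normalizer (U : Set X) : Subgroup X) : Set X) :=
  (le_inf h.norm (le_normalizer_normalizer h2)).trans inf_normalizer_le_normalizer_inf

omit [Finite X] in
theorem norm_sol {U : Subgroup X} (h1 : U ≤ G) (h0 : U ≠ ⊥) (hs : Group.IsSolvable U)
    (h2 : A ≤ normalizer (U : Set X)) : Group.IsSolvable ↥(G ⊓ normalizer (U : Set X)) :=
  h.sol _ inf_le_left (h.norm_ne h1 h0 hs) (h.norm_inv h2)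

theorem rho {Y : Subgroup X} (h1 : Y ≤ G) (h2 : A ≤ normalizer (Y : Set X))
    (hs : Group.IsSolvable Y) {p : ℕ} (hp : p.Prime) (hd : p ∣ Nat.card Y) : Rho A G p := by
  have : Fact p.Prime := ⟨hp⟩
  obtain ⟨P, hP, h3⟩ := (h.toFP.mono h1 h2).exists_sylow hs p
  obtain ⟨U, h4, ⟨h5, h6, h7⟩, h8⟩ := exists_maximal_ge_of_wellFoundedGT
    (fun U : Subgroup X => U ≤ G ∧ IsPGroup p U ∧ A ≤ normalizer (U : Set X)) P
    ⟨hP.le.trans h1, hP.isPGroup, h3⟩
  refine ⟨hd.trans (card_dvd_of_le h1), U, ?_, h7⟩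
  have h0 : U ≠ ⊥ := fun e => hP.ne_bot hd (eq_bot_iff.2 (e ▸ h4))
  obtain ⟨T, hT, h9⟩ := (h.toFP.mono inf_le_left (h.norm_inv h7)).exists_sylow
    (h.norm_sol h5 h0 (solvable_of_isPGroup h6) h7) p
  have h10 : U ≤ T := FT.le_sylow_of_norm' hT h6 (le_inf h5 le_normalizer)
    (hT.le.trans inf_le_right)
  have h11 : T = U := le_antisymm (h8 ⟨hT.le.trans inf_le_left, hT.isPGroup, h9⟩ h10) h10
  refine IsSylowIn.of_maximal h5 h6 fun S hS h12 h13 => ?_
  by_contra hh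
  have h14 := lt_inf_normalizer_of_isPGroup hS (lt_of_le_not_ge h12 hh)
  rw [h11] at hT
  exact h14.ne' (hT.eq_of_le (hS.to_le inf_le_left) h14.le (inf_le_inf_right _ h13))

theorem exists_rho : ∃ p : ℕ, p.Prime ∧ Rho A G p := by
  have h0 : G ≠ ⊥ := fun e => h.nsol (e ▸ inferInstance)
  have prm : ∀ Y : Subgroup X, Y ≠ ⊥ → ∃ p : ℕ, p.Prime ∧ p ∣ Nat.card Y := fun Y hY =>
    Nat.exists_prime_and_dvd fun e => hY (card_eq_one.1 e)
  obtain ⟨V, hVA, ⟨h1, h2⟩, h3⟩ := exists_minimal_le_of_wellFoundedLT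
    (fun V : Subgroup X => A ≤ normalizer (V : Set X) ∧ G ⊓ centralizer (V : Set X) = ⊥) A
    ⟨le_normalizer, h.fpf⟩
  by_cases hc : ∃ p : ℕ, p.Prime ∧ p ∣ Nat.card G ∧ ¬ V ≤ pResidualOf p V
  · obtain ⟨p, hp, hd, h4⟩ := hc
    have : Fact p.Prime := ⟨hp⟩
    have h5 := h1.trans (normalizer_le_normalizer_pResidualOf (p := p) V)
    have h6 := le_normalizer_inf_centralizer h.norm h5
    obtain ⟨q, hq, h7⟩ := prm _ fun e => h4 (h3 ⟨h5, e⟩ (pResidualOf_le V))
    exact ⟨q, hq, h.rho inf_le_left h6 (h.sol _ inf_le_left (fun e =>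
      not_dvd_of_fpf (hVA.trans h.norm) h2 (inf_eq_left.1 e) hd) h6) hq h7⟩
  have hcop : (Nat.card V).Coprime (Nat.card G) := by
    refine Nat.coprime_of_dvd fun p hp h4 h5 => hc ⟨p, hp, h5, fun h6 => ?_⟩
    have : Fact p.Prime := ⟨hp⟩
    exact (Nat.Prime.coprime_iff_not_dvd hp).1 (h.toFP.cop h5).symm
      (h4.trans (card_dvd_of_le (h6.trans (pResidualOf_mono hVA))))
  have hs : Group.IsSolvable V ∨ Group.IsSolvable G := Or.inl (FT.feit_thompson (by
    by_contra ho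
    exact h.nsol (FT.feit_thompson (Nat.odd_iff.2 (Nat.two_dvd_ne_zero.1 fun h4 =>
      Nat.not_coprime_of_dvd_of_dvd one_lt_two (even_iff_two_dvd.1 (Nat.not_odd_iff_even.1 ho))
        h4 hcop)))))
  obtain ⟨p, hp, hd⟩ := prm G h0
  have : Fact p.Prime := ⟨hp⟩
  obtain ⟨P, hP, h4⟩ := exists_invariant_sylowOf p (hVA.trans h.norm) hcop hs
  have hP' := FT.sylow_iff_hall.2 hP
  refine ⟨p, hp, hd, P, hP', fun a ha => ?_⟩
  obtain ⟨c, hc', e⟩ := conj_invariant_sylowOf (hVA.trans h.norm) hcop hs hP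
    (FT.sylow_iff_hall.1 (hP'.map_conj_of_mem_normalizer (h.norm ha))) h4
    (FP.le_norm_conj fun v hv => h4 (conj_mem_of_mem_normalizer' (h1 ha) hv))
  rw [h2, mem_bot] at hc'
  rw [hc', map_conj_one] at e
  exact mem_normalizer_of_map_conj_eq e

theorem rho_norm {p q : ℕ} (hp : p.Prime) (hq : q.Prime) (h1 : Rho A G p)
    (h2 : ∀ S, IsSylowIn p S G → q ∣ Nat.card ↥(G ⊓ normalizer (S : Set X))) : Rho A G q := by
  have : Fact p.Prime := ⟨hp⟩
  obtain ⟨hd, S, hS, h3⟩ := h1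
  exact h.rho inf_le_left (h.norm_inv h3)
    (h.norm_sol hS.le (hS.ne_bot hd) (solvable_of_isPGroup hS.isPGroup) h3) hq (h2 S hS)

theorem rho_two {r : ℕ} (hr : r.Prime) (h2 : r ≠ 2) (hR : RA r G) (h1 : Rho A G r) :
    Rho A G 2 := by
  have : Fact r.Prime := ⟨hr⟩
  obtain ⟨hd, R, hS, h3⟩ := h1
  have h4 := inf_centralizer_ne_bot_of_isNilpotent hS.isPGroup.isNilpotent le_rfl le_normalizer
    (hS.ne_bot hd)
  obtain ⟨⟨x, hx⟩, hxo⟩ := exists_prime_orderOf_dvd_card' (G := ↥(R ⊓ centralizer (R : Set X))) r (by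
    obtain ⟨k, hk⟩ := (hS.isPGroup.to_inf_left (K := centralizer (R : Set X))).exists_card_eq
    rcases k with _ | k
    · exact absurd (card_eq_one.1 hk) h4
    · exact hk ▸ dvd_pow_self r k.succ_ne_zero)
  rw [orderOf_mk] at hxo
  obtain ⟨⟨s, hs, h5⟩, h6⟩ := hR x (hS.le hx.1) hxo
  have h7 : G ⊓ centralizer (R : Set X) = G ⊓ centralizer {x} := by
    refine le_antisymm (fun y hy => ⟨hy.1, mem_centralizer_singleton_iff.2 (hy.2 x hx.1).symm⟩)
      fun y hy => ⟨hy.1, fun z hz => h6 z (hS.le hz) y hy.1 (hx.2 z hz).symm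
        (mem_centralizer_singleton_iff.1 hy.2).symm⟩
  have h8 := le_normalizer_inf_centralizer h.norm h3
  have h9 : Group.IsSolvable ↥(G ⊓ centralizer (R : Set X)) := by
    rw [h7]
    exact Group.isSolvable_of_comm fun y z => Subtype.ext (h6 y y.2.1 z z.2.1
      (mem_centralizer_singleton_iff.1 y.2.2).symm (mem_centralizer_singleton_iff.1 z.2.2).symm)
  refine h.rho inf_le_left (h.norm_inv h8) (h.norm_sol inf_le_left (fun e => h4 (eq_bot_iff.2
    (e ▸ inf_le_inf_right _ hS.le))) h9 h8) Nat.prime_two (Dvd.dvd.trans ?_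
      (orderOf_dvd_natCard _ (x := s) ⟨hs, ?_⟩))
  · by_contra ho
    obtain ⟨k, hk⟩ := Nat.odd_iff.2 (Nat.two_dvd_ne_zero.1 ho)
    have h10 := conj_odd_pow_of_inv h5 k
    rw [← hk, pow_orderOf_eq_one, one_mul, inv_one, mul_one] at h10
    have h11 : x ^ 2 = 1 := by rw [pow_two]; nth_rw 1 [h10]; rw [inv_mul_cancel]
    exact h2 ((Nat.prime_dvd_prime_iff_eq hr Nat.prime_two).1
      (hxo ▸ orderOf_dvd_of_pow_eq_one h11))
  · rw [h7]
    exact inf_normalizer_le_normalizer_inf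
      ⟨le_normalizer hs, H5.mem_normalizer_centralizer_of_inverts h5⟩

theorem not_rho {p : ℕ} (hp : p.Prime) (hT : TwoT p G) : ¬ Rho A G p := by
  have : Fact p.Prime := ⟨hp⟩
  rintro ⟨hd, S, hS, h1⟩
  have h0 := hS.ne_bot hd
  have hs := solvable_of_isPGroup hS.isPGroup
  obtain ⟨g₀, hg₀, h2⟩ := SetLike.not_le_iff_exists.1 fun e => h.norm_ne hS.le h0 hs (inf_eq_left.2 e)
  obtain ⟨n, hn, h3⟩ := (h.toFP.mono hS.le h1).fix_p hS.isPGroup
    (Y := (normalizer (S : Set X)).map (MulAut.conj g₀).toMonoidHom) fun a ha => by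
      obtain ⟨y, hy, h3⟩ := hT S hS g₀ hg₀ _ (conj_mem_of_mem_normalizer (h.norm ha) hg₀) h2
        fun e => h2 (by simpa [mul_assoc] using mul_mem (mul_mem (inv_mem (h1 ha)) e) (h1 ha))
      refine ⟨y, hy, mem_map_conj_iff.2 ?_⟩
      simpa [mul_assoc] using mul_mem h3 (h1 ha)
  set g := n * g₀ with hgd
  have hg : g ∈ G := mul_mem (hS.le hn) hg₀
  have h4 : g ∉ normalizer (S : Set X) := fun e => h2 (by
    simpa [hgd] using mul_mem (inv_mem (le_normalizer hn)) e)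
  have h5 : ∀ a ∈ A, g⁻¹ * a * g ∈ normalizer (S : Set X) := fun a ha => by
    have h5 := mem_map_conj_iff.1 (h3 a ha)
    rwa [show g⁻¹ * a * g = g₀⁻¹ * (n⁻¹ * a * n) * g₀ by rw [hgd]; group]
  obtain ⟨y, hy, h6⟩ := hT S hS g hg g⁻¹ (inv_mem hg) h4 fun e => h4 (by simpa using inv_mem e)
  have h7 : g * y * g ∈ normalizer (S : Set X) := by simpa [mul_assoc] using inv_mem h6
  have h8 := h.norm_inv h1
  have h9 := h.toFP.mem_of_coset (N := (G ⊓ normalizer (S : Set X)) ⊓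
      (normalizer (S : Set X)).map (MulAut.conj g).toMonoidHom) (inf_le_left.trans inf_le_left)
    (le_normalizer_inf' h8 fun a ha => le_normalizer (mem_map_conj_iff.2 (h5 a ha)))
    (solvable_of_le (h.norm_sol hS.le h0 hs h1) inf_le_left) (g := g * y)
    (mul_mem hg (hS.le hy)) fun a ha => by
      have h9 := mul_mem hg (hS.le hy)
      refine mem_inf.2 ⟨mem_inf.2 ⟨mul_mem (inv_mem h9)
        (conj_mem_of_mem_normalizer (h.norm ha) h9), ?_⟩, mem_map_conj_iff.2 ?_⟩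
      · rw [show (g * y)⁻¹ * (a * (g * y) * a⁻¹) = y⁻¹ * (g⁻¹ * a * g) * y * a⁻¹ by group]
        exact mul_mem (mul_mem (mul_mem (inv_mem (le_normalizer hy)) (h5 a ha))
          (le_normalizer hy)) (inv_mem (h1 ha))
      · rw [show g⁻¹ * ((g * y)⁻¹ * (a * (g * y) * a⁻¹)) * g =
          (g * y * g)⁻¹ * a * (g * y * g) * (g⁻¹ * a * g)⁻¹ by group]
        exact mul_mem (mul_mem (mul_mem (inv_mem h7) (h1 ha)) h7) (inv_mem (h5 a ha))
  exact h4 (by simpa using mul_mem (mem_inf.1 (mem_inf.1 h9).1).2 (inv_mem (le_normalizer hy)))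

end FM

end CfsgLib.GO
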