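import Cfsg.Agent.Lib.GO.RedS
import Cfsg.Agent.Lib.H5PiClosed
import Cfsg.Agent.Lib.H5Real
import Cfsg.Agent.Lib.H5Misc
import Cfsg.Agent.Lib.J1.A5
import Cfsg.Agent.Lib.JR.PSL
import Cfsg.Agent.Lib.GW.PslA

/-!
# Real elements of odd prime order in sections; applications to known `S₃`-free groups
-/

set_option autoImplicit false

namespace CfsgLib.GO

open Subgroup Cfsg CfsgLib.H1 CfsgLib.Suz

universe u

theorem conj_odd_pow_of_inv {Y : Type*} [Group Y] {d t : Y} (h : t * d * t⁻¹ = d⁻¹) (k : ℕ) :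
    t ^ (2 * k + 1) * d * (t ^ (2 * k + 1))⁻¹ = d⁻¹ := by
  induction k with
  | zero => simpa using h
  | succ k ih =>
    have h2 := inv_conj_of_mem_zpowers h (inv_mem (mem_zpowers d))
    calc t ^ (2 * (k + 1) + 1) * d * (t ^ (2 * (k + 1) + 1))⁻¹
        = t * (t * (t ^ (2 * k + 1) * d * (t ^ (2 * k + 1))⁻¹) * t⁻¹) * t⁻¹ := by
          rw [show 2 * (k + 1) + 1 = 1 + (1 + (2 * k + 1)) by ring, pow_add, pow_add, pow_one]
          group
      _ = d⁻¹ := by rw [ih, h2, inv_inv, h]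

/-- A real element of odd prime order of a quotient yields one upstairs. -/
theorem exists_real_lift {X Y : Type*} [Group X] [Finite X] [Group Y] (f : X →* Y)
    (hf : Function.Surjective f) {r : ℕ} (hr : r.Prime) (h2 : r ≠ 2) {d t : Y}
    (hd : orderOf d = r) (h : t * d * t⁻¹ = d⁻¹) :
    ∃ x s : X, orderOf x = r ∧ s * x * s⁻¹ = x⁻¹ := by
  have : Fact r.Prime := ⟨hr⟩
  obtain ⟨t₀, rfl⟩ := hf t
  set K := (zpowers d).comap f with hK
  obtain ⟨P, hP⟩ := IsSylowIn.exists_in (p := r) K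
  have hPf : P.map f = zpowers d := by
    have h2 := hP.map f
    rw [hK, map_comap_eq_self_of_surjective hf] at h2
    exact (h2.eq_of_le (isPGroup_zpowers_of_pow (k := 1) (by
      rw [pow_one, ← hd, pow_orderOf_eq_one])) h2.le le_rfl).symm
  have ht₀ : t₀ ∈ normalizer (K : Set X) :=
    le_normalizer_comap f (inv_conj_mem_normalizer_zpowers h)
  obtain ⟨c, hc, hct⟩ := hP.frattini_elem ht₀
  have h4 : f (c * t₀) * d * (f (c * t₀))⁻¹ = d⁻¹ := by
    obtain ⟨m, hm⟩ := mem_zpowers_iff.1 (show f c ∈ zpowers d from hc)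
    calc f (c * t₀) * d * (f (c * t₀))⁻¹ = f c * (f t₀ * d * (f t₀)⁻¹) * (f c)⁻¹ := by
          rw [map_mul]; group
      _ = d⁻¹ := by rw [h, ← hm]; group
  set n := c * t₀
  let φ := normalizerMonoidHom P
  have hφ : ∀ (g : normalizer (P : Set X)) (y : P), (φ g y : X) = g * y * (g : X)⁻¹ :=
    fun _ _ => rfl
  have hev : Even (orderOf (φ ⟨n, hct⟩)) := by
    by_contra ho
    obtain ⟨k, hk⟩ := Nat.not_even_iff_odd.1 ho
    obtain ⟨y, hy, hyd⟩ : d ∈ P.map f := hPf ▸ mem_zpowers d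
    have h5 := hφ (⟨n, hct⟩ ^ (2 * k + 1)) ⟨y, hy⟩
    rw [map_pow, ← hk, pow_orderOf_eq_one, hk] at h5
    have h6 := congrArg f h5
    simp only [MulAut.one_apply, SubgroupClass.coe_pow, map_mul, map_inv, map_pow, hyd] at h6
    rw [conj_odd_pow_of_inv h4] at h6
    have h7 : d ^ 2 = 1 := by rw [pow_two]; nth_rw 1 [h6]; rw [inv_mul_cancel]
    exact h2 ((Nat.prime_dvd_prime_iff_eq hr Nat.prime_two).1 (hd ▸ orderOf_dvd_of_pow_eq_one h7))
  obtain ⟨j, h5, h6⟩ := exists_invol_pow hev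
  rw [← map_pow] at h5 h6
  set s := (⟨n, hct⟩ : normalizer (P : Set X)) ^ j
  obtain ⟨y, hy⟩ : ∃ y, φ s y ≠ y := by
    by_contra hh
    push Not at hh
    exact h5 (MulEquiv.ext hh)
  have h7 : φ s (y⁻¹ * φ s y) = (y⁻¹ * φ s y)⁻¹ := by
    rw [map_mul, map_inv, ← MulAut.mul_apply, h6, MulAut.one_apply, mul_inv_rev, inv_inv]
  have h8 : y⁻¹ * φ s y ≠ 1 := fun e => hy (by rw [← mul_right_inj y⁻¹, e, inv_mul_cancel])
  set x := y⁻¹ * φ s y
  obtain ⟨k, hk⟩ := hP.isPGroup.exists_orderOf_eq_pow x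
  have h9 : r ∣ Nat.card (zpowers (x : X)) := by
    rw [Nat.card_zpowers, orderOf_coe, hk]
    refine dvd_pow_self r ?_
    rintro rfl
    exact h8 (orderOf_eq_one_iff.1 (by simpa using hk))
  obtain ⟨⟨z, hz⟩, hzo⟩ := exists_prime_orderOf_dvd_card' r h9
  rw [orderOf_mk] at hzo
  refine ⟨z, s, hzo, inv_conj_of_mem_zpowers ?_ hz⟩
  rw [← hφ, h7, coe_inv]

theorem exists_real_of_involves {X Y : Type*} [Group X] [Finite X] [Group Y] (hY : Involves Y X)
    {r : ℕ} (hr : r.Prime) (h2 : r ≠ 2) {d t : Y} (hd : orderOf d = r)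
    (h : t * d * t⁻¹ = d⁻¹) : ∃ x s : X, orderOf x = r ∧ s * x * s⁻¹ = x⁻¹ := by
  obtain ⟨H, f, hf⟩ := involves_iff.1 hY
  obtain ⟨x, s, h1, h3⟩ := exists_real_lift f hf hr h2 hd h
  exact ⟨x, s, by rw [orderOf_coe, h1], by exact_mod_cast h3⟩

theorem s3f_of_not_real {X : Type*} [Group X] [Finite X]
    (h : ∀ x s : X, orderOf x = 3 → s * x * s⁻¹ ≠ x⁻¹) : S3F X := fun h1 => by
  obtain ⟨x, s, h2, h3⟩ := exists_real_of_involves h1 Nat.prime_three (by norm_num)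
    (d := Equiv.swap 0 1 * Equiv.swap 1 2) (t := Equiv.swap 0 1)
    (orderOf_eq_prime (hp := ⟨Nat.prime_three⟩) (by decide) (by decide)) (by decide)
  exact h x s h2 h3

/-- In a Suzuki group every odd prime divisor of the order is the order of a strongly real
element. -/
theorem SzT.exists_real {K : Type*} [Group K] [Finite K] (h : SzT K) {r : ℕ} (hr : r.Prime)
    (h2 : r ≠ 2) (hd : r ∣ Nat.card K) :
    ∃ u x : K, u * u = 1 ∧ orderOf x = r ∧ u * x * u = x⁻¹ := by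
  obtain ⟨H, Q, t, Z, -, -, hc, -, F, _, _, m, h1, hF, h3, ⟨e⟩⟩ := h.data
  have : Fact r.Prime := ⟨hr⟩
  rw [Z.toRO.card_G, hc, h3] at hd
  rcases (Nat.Prime.dvd_mul hr).1 hd with hd | hd
  · rcases (Nat.Prime.dvd_mul hr).1 hd with hd | hd
    · exact absurd ((Nat.prime_dvd_prime_iff_eq hr Nat.prime_two).1
        (hr.dvd_of_dvd_pow (hr.dvd_of_dvd_pow hd))) h2
    · obtain ⟨⟨x, hx⟩, hxo⟩ := exists_prime_orderOf_dvd_card' r hd
      exact ⟨t, x, Z.tt, by rwa [orderOf_mk] at hxo, Z.inv x hx⟩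
  · obtain ⟨u, hu, v, hv, h4, h5, -, h6, h7⟩ := exists_sz_pow hF hr h2 hd
    have h8 : (⟨u, hu⟩ : Lie.Sz F (2 ^ (m + 1))) * ⟨u, hu⟩ = 1 := Subtype.ext h4
    have h9 : (⟨v, hv⟩ : Lie.Sz F (2 ^ (m + 1))) * ⟨v, hv⟩ = 1 := Subtype.ext h5
    refine ⟨e.symm ⟨u, hu⟩, e.symm (⟨u, hu⟩ * ⟨v, hv⟩), by rw [← map_mul, h8, map_one], ?_, ?_⟩
    · rw [MulEquiv.orderOf_eq]
      exact orderOf_eq_prime (Subtype.ext h7) fun e => h6 (congrArg Subtype.val e)
    · rw [← map_mul, ← map_mul, ← map_inv, ← mul_assoc, h8, one_mul, mul_inv_rev,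
        inv_eq_of_mul_self h8, inv_eq_of_mul_self h9]

theorem L3T.three_dvd {K : Type*} [Group K] (h : L3T K) : 3 ∣ Nat.card K := by
  obtain ⟨F, _, _, f, h1, hF, ⟨e⟩⟩ := h
  have h2 : (2 : F) ≠ 0 := GW.PA.two_ne_zero_of_card (Or.inl (by
    rw [hF, pow_succ, pow_mul, Nat.mul_mod, Nat.pow_mod]; simp))
  rw [Nat.card_congr e.toEquiv]
  refine Dvd.dvd.trans ?_ (card_subgroup_dvd_card ((JR.uni F).map (JR.pr F)))
  rw [JR.card_map_uni h2, Nat.card_eq_fintype_card, hF]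
  exact dvd_pow_self 3 (by omega)

theorem piSep_of_sections {π : Set ℕ} (G : Type u) [Group G] [Finite G] :
    (∀ (K : Type u) [Group K], Involves K G → IsSimpleGroup K →
      IsPiSubgroup π (⊤ : Subgroup K) ∨ IsPiSubgroup πᶜ (⊤ : Subgroup K)) → PiSep π G := by
  refine card_induction (P := fun X _ _ => (∀ (K : Type u) [Group K], Involves K X →
    IsSimpleGroup K → IsPiSubgroup π (⊤ : Subgroup K) ∨ IsPiSubgroup πᶜ (⊤ : Subgroup K)) →
      PiSep π X) (fun X _ _ ih h => ?_) G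
  by_cases h0 : (⊥ : Subgroup X) = ⊤
  · exact PiSep.of_isPiSubgroup_top (Or.inl (h0 ▸ isPiSubgroup_bot π))
  obtain ⟨N, _, -, h1, h2, -⟩ := H5.exists_maximal_normal_ge h0
  exact PiSep.of_normal_of_quotient N (ih N (card_lt_of_ne_top h1) fun K _ hK =>
    h K (Involves.of_subgroup hK)) (PiSep.of_isPiSubgroup_top
      (h _ (involves_of_surjective _ (QuotientGroup.mk'_surjective N)) h2))

/-- `π`-homogeneous `3'`-groups are `π'`-closed. -/
theorem piClosed_of_kg {G : Type u} [Group G] [Finite G] (hK : KG G) (π : Set ℕ)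
    (hodd : ∀ p ∈ π, p.Prime ∧ p ≠ 2) (h3 : ¬ 3 ∣ Nat.card G)
    (hhom : ∀ H : Subgroup G, H ≠ ⊥ → (∀ p : ℕ, p.Prime → p ∣ Nat.card H → p ∈ π) →
      ∀ p : ℕ, p.Prime →
        p ∣ (centralizer (H : Set G)).relIndex (normalizer (H : Set G)) → p ∈ π) :
    ∃ K : Subgroup G, ∀ x : G, x ∈ K ↔ ∀ p : ℕ, p.Prime → p ∣ orderOf x → p ∉ π := by
  refine H5.piClosed_of_piSep (π := πᶜ) (piSep_of_sections G fun K _ hI hs => ?_)
    fun H h0 hH p hp hd => not_not.2 (hhom H h0 (fun q hq h => not_not.1 (hH q hq h)) p hp hd)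
  obtain ⟨H, f, hf⟩ := involves_iff.1 hI
  have := Finite.of_surjective f hf
  by_cases hc : IsMulCommutative K
  · have hp : (Nat.card K).Prime := by
      let _ : CommGroup K := { mul_comm := hc.is_comm.comm }
      exact IsSimpleGroup.prime_card
    by_cases h : Nat.card K ∈ π
    · exact Or.inr fun q hq hd => by
        rw [card_top] at hd
        rw [(Nat.prime_dvd_prime_iff_eq hq hp).1 hd]; exact not_not.2 h
    · exact Or.inl fun q hq hd => by
        rw [card_top] at hd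
        rw [(Nat.prime_dvd_prime_iff_eq hq hp).1 hd]; exact h
  rcases hK K hI hs hc with h | h
  · refine Or.inl fun r hr hd hπ => ?_
    rw [card_top] at hd
    obtain ⟨u, x, h1, h2, h4⟩ := h.exists_real hr (hodd r hπ).2 hd
    obtain ⟨y, s, h5, h6⟩ := exists_real_of_involves hI hr (hodd r hπ).2 h2 (t := u)
      (by rw [inv_eq_of_mul_self h1, h4])
    refine (hodd 2 (hhom (zpowers y) ?_ ?_ 2 Nat.prime_two
      (H5.prime_dvd_relIndex_of_pow_mem Nat.prime_two (Cop.normalizer_le_normalizer_centralizer _)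
        (inv_conj_mem_normalizer_zpowers h6) (fun h7 => (hodd r hπ).2 ?_) ?_))).2 rfl
    · rw [Ne, zpowers_eq_bot]
      rintro rfl
      rw [orderOf_one] at h5
      exact hr.one_lt.ne h5
    · intro q hq hd
      rw [Nat.card_zpowers, h5] at hd
      rwa [(Nat.prime_dvd_prime_iff_eq hq hr).1 hd]
    · rw [H5.centralizer_zpowers_eq] at h7
      exact (Nat.prime_dvd_prime_iff_eq hr Nat.prime_two).mp
        (h5 ▸ orderOf_dvd_of_pow_eq_one (H5.sq_eq_one_of_inverts_of_centralizes h6 h7))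
    · rw [H5.centralizer_zpowers_eq]
      exact H5.sq_mem_centralizer_of_inverts h6
  · exact absurd ((h.three_dvd.trans (card_dvd_of_surjective f hf)).trans
      (card_subgroup_dvd_card H)) h3

theorem s3f_of_irr {G : Type*} [Group G] [Finite G]
    (hirr : ∀ x : G, (∀ r : ℕ, r.Prime → r ∣ orderOf x → r = 3) →
      normalizer ((zpowers x : Subgroup G) : Set G) ≤ centralizer {x}) : S3F G :=
  s3f_of_not_real fun x s h1 h2 => by
    have h3 := H5.sq_eq_one_of_inverts_of_centralizes h2 (hirr x (fun r hr hd =>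
      (Nat.prime_dvd_prime_iff_eq hr Nat.prime_three).1 (h1 ▸ hd))
        (inv_conj_mem_normalizer_zpowers h2))
    have h4 := orderOf_dvd_of_pow_eq_one h3
    rw [h1] at h4
    exact absurd h4 (by norm_num)

theorem L3T.galois {K : Type*} [Group K] (h : L3T K) : ∃ f : ℕ, 1 ≤ f ∧
    Nonempty (K ≃* Matrix.ProjectiveSpecialLinearGroup (Fin 2) (GaloisField 3 (2 * f + 1))) := by
  obtain ⟨F, _, _, f, h1, hF, ⟨e⟩⟩ := h
  have : Fact (Nat.Prime 3) := ⟨Nat.prime_three⟩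
  let _ := Fintype.ofFinite (GaloisField 3 (2 * f + 1))
  exact ⟨f, h1, ⟨e.trans (J1.pslCongr (FiniteField.ringEquivOfCardEq (by
    rw [hF, ← Nat.card_eq_fintype_card, GaloisField.card 3 _ (by omega)])))⟩⟩

end CfsgLib.GO
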